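import Cfsg.Agent.H98.Ore.Defs
import Cfsg.Agent.H166.Cov.Core

/-!
# S2446, task T1: a matrix with a simple eigenvalue is a commutator `h Z h⁻¹ Z⁻¹` with `Z` of a given irreducible
characteristic polynomial
-/

set_option autoImplicit false

namespace Cfsg.Agent.H864.Ore

open Module Polynomial Cfsg.Agent.H166.Cov

universe u

section

variable {F : Type u} [Field F] {V : Type u} [AddCommGroup V] [Module F V]

/-- coordinates `v ↦ (v - φ v • u, φ v)` -/
noncomputable def crd (φ : V →ₗ[F] F) (u : V) (hu : φ u = 1) : V ≃ₗ[F] (LinearMap.ker φ × F) :=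
  LinearEquiv.ofLinearMap
    (LinearMap.prod (LinearMap.codRestrict (LinearMap.ker φ) (LinearMap.id - φ.smulRight u) (fun v => by
      simp [hu])) φ)
    (LinearMap.coprod (LinearMap.ker φ).subtype (LinearMap.toSpanSingleton F V u))
    (by
      refine LinearMap.ext fun x => Prod.ext (Subtype.ext ?_) ?_
      · show (x.1 : V) + x.2 • u - φ ((x.1 : V) + x.2 • u) • u = x.1
        rw [map_add, map_smul, LinearMap.mem_ker.1 x.1.2, hu]
        simp
      · show φ ((x.1 : V) + x.2 • u) = x.2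
        rw [map_add, map_smul, LinearMap.mem_ker.1 x.1.2, hu]
        simp)
    (by
      refine LinearMap.ext fun x => ?_
      show (x - φ x • u) + φ x • u = x
      rw [sub_add_cancel])

theorem crd_fst (φ : V →ₗ[F] F) (u : V) (hu : φ u = 1) (v : V) : ((crd φ u hu v).1 : V) = v - φ v • u := rfl

theorem crd_snd (φ : V →ₗ[F] F) (u : V) (hu : φ u = 1) (v : V) : (crd φ u hu v).2 = φ v := rfl

theorem split {φ : V →ₗ[F] F} {u : V} (hu : φ u = 1) {T : End F V} (hT : ∀ v ∈ LinearMap.ker φ, T v ∈ LinearMap.ker φ) :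
    ∃ R : F →ₗ[F] LinearMap.ker φ, Sim T (up (T.restrict hT) R (φ (T u) • (1 : End F F))) := by
  refine ⟨LinearMap.toSpanSingleton F _ ⟨T u - φ (T u) • u, by simp [hu]⟩, crd φ u hu, fun v => ?_⟩
  have h1 : φ (T (v - φ v • u)) = 0 := hT _ (by simp [hu])
  rw [map_sub, map_sub, map_smul, map_smul, smul_eq_mul, sub_eq_zero] at h1
  refine Prod.ext (Subtype.ext ?_) ?_
  · rw [crd_fst, up_apply, Submodule.coe_add, LinearMap.coe_restrict_apply, crd_fst, crd_snd,
      LinearMap.toSpanSingleton_apply, Submodule.coe_smul, map_sub, map_smul, h1, smul_sub, smul_smul]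
    abel
  · show φ (T v) = φ (T u) • φ v
    rw [h1, smul_eq_mul, mul_comm]

theorem split_charpoly [FiniteDimensional F V] {φ : V →ₗ[F] F} {u : V} (hu : φ u = 1) {T : End F V}
    (hT : ∀ v ∈ LinearMap.ker φ, T v ∈ LinearMap.ker φ) :
    LinearMap.charpoly T = LinearMap.charpoly (T.restrict hT) * (X - C (φ (T u))) := by
  obtain ⟨R, h⟩ := split hu hT
  rw [h.charpoly, charpoly_up, charpoly_smul_one]

theorem split_det [FiniteDimensional F V] {φ : V →ₗ[F] F} {u : V} (hu : φ u = 1) {T : End F V}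
    (hT : ∀ v ∈ LinearMap.ker φ, T v ∈ LinearMap.ker φ) :
    LinearMap.det T = LinearMap.det (T.restrict hT) * φ (T u) := by
  obtain ⟨R, h⟩ := split hu hT
  rw [h.det, det_eq_charpoly, charpoly_up, charpoly_smul_one, det_eq_charpoly (T.restrict hT), mul_coeff_zero,
    finrank_prod, pow_add, finrank_self]
  simp [mul_assoc]

/-- the transvection `v ↦ v + φ v • w` -/
noncomputable def tr (φ : V →ₗ[F] F) (w : V) (hw : φ w = 0) : V ≃ₗ[F] V :=
  LinearEquiv.ofLinearMap (LinearMap.id + φ.smulRight w) (LinearMap.id - φ.smulRight w)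
    (by ext x; simp [hw]) (by ext x; simp [hw])

theorem tr_apply (φ : V →ₗ[F] F) (w : V) (hw : φ w = 0) (v : V) : tr φ w hw v = v + φ v • w := rfl

/-- a dual eigenvector -/
theorem exists_dual [FiniteDimensional F V] {T : End F V} {x : F} (h : (LinearMap.charpoly T).eval x = 0) :
    ∃ (φ : V →ₗ[F] F) (u : V), φ u = 1 ∧ ∀ v, φ (T v) = x * φ v := by
  rw [LinearMap.eval_charpoly] at h
  have h3 : LinearMap.range (algebraMap F (End F V) x - T) < ⊤ := LinearMap.range_lt_top_of_det_eq_zero h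
  obtain ⟨φ, hφ, hφ0⟩ := Submodule.exists_le_ker_of_lt_top _ h3
  obtain ⟨u, hu⟩ : ∃ u, φ u ≠ 0 := by
    by_contra hcon
    push Not at hcon
    exact hφ (LinearMap.ext hcon)
  refine ⟨φ, (φ u)⁻¹ • u, by rw [map_smul, smul_eq_mul, inv_mul_cancel₀ hu], fun v => ?_⟩
  have h4 : φ ((algebraMap F (End F V) x - T) v) = 0 := hφ0 (LinearMap.mem_range_self _ v)
  rw [LinearMap.sub_apply, Module.algebraMap_end_apply, map_sub, map_smul, smul_eq_mul, sub_eq_zero] at h4
  exact h4.symm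

theorem main [Finite F] (hF : 4 ≤ Nat.card F) [FiniteDimensional F V] {P : End F V} (hdet : LinearMap.det P = 1)
    {x : F} {p : F[X]} (hp : LinearMap.charpoly P = (X - C x) * p) (hx : p.eval x ≠ 0) {f : F[X]}
    (hf : Irreducible f) (hfm : f.Monic) (hfd : f.natDegree = finrank F V) (hn : 2 ≤ finrank F V) :
    ∃ (Z : End F V) (h : End F V), LinearMap.charpoly Z = f ∧ LinearMap.det h = 1 ∧ P * Z * h = h * Z := by
  obtain ⟨φ, u, hu, hφ⟩ := exists_dual (T := P) (x := x) (by rw [hp]; simp)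
  have hPH : ∀ v ∈ LinearMap.ker φ, P v ∈ LinearMap.ker φ := by
    intro v hv
    rw [LinearMap.mem_ker] at hv ⊢
    rw [hφ, hv, mul_zero]
  set PH := P.restrict hPH with hPHdef
  have hPHc : ∀ h : LinearMap.ker φ, ((PH h : LinearMap.ker φ) : V) = P h := fun h => rfl
  have hPu : φ (P u) = x := by rw [hφ, hu, mul_one]
  have hcp : LinearMap.charpoly PH = p := by
    have h1 := split_charpoly hu hPH
    rw [hp, hPu, mul_comm] at h1
    exact (mul_right_cancel₀ (X_sub_C_ne_zero x) h1).symm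
  have hPd : LinearMap.det PH * x = 1 := by
    have h1 := split_det hu hPH
    rw [hdet, hPu] at h1
    exact h1.symm
  have hPH0 : LinearMap.det PH ≠ 0 := left_ne_zero_of_mul_eq_one hPd
  let e : LinearMap.ker φ ≃ₗ[F] LinearMap.ker φ := LinearMap.equivOfDetNeZero PH hPH0
  have he : ∀ h, e h = PH h := fun h => rfl
  have hes : ∀ h, PH (e.symm h) = h := fun h => by rw [← he, e.apply_symm_apply]
  have hHd : finrank F V = finrank F (LinearMap.ker φ) + 1 := by
    have h1 := (crd φ u hu).finrank_eq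
    rw [finrank_prod, finrank_self] at h1
    exact h1
  let a : LinearMap.ker φ →ₗ[F] V := (LinearMap.ker φ).subtype
  let b : LinearMap.ker φ →ₗ[F] V := a ∘ₗ (e.symm : LinearMap.ker φ →ₗ[F] LinearMap.ker φ)
  have ha : Function.Injective a := Subtype.val_injective
  have hb : Function.Injective b := ha.comp e.symm.injective
  obtain ⟨D, hD1, hD2⟩ := exists_pencil hF hHd a b ha hb
  have hφa : ∀ v, φ v = 0 ↔ ∃ w, a w = v := fun v => ⟨fun h => ⟨⟨v, h⟩, rfl⟩, by
    rintro ⟨w, rfl⟩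
    exact w.2⟩
  have hD2' : ∀ S : Submodule F (LinearMap.ker φ), (∀ x ∈ S, ∃ y ∈ S, (D ∘ₗ PH) x = a y) → S = ⊥ := by
    intro S hS
    have h1 := hD2 (S.map PH) (by
      rintro _ ⟨w, hw, rfl⟩
      obtain ⟨y, hy, h⟩ := hS w hw
      refine ⟨PH y, ⟨y, hy, rfl⟩, ?_⟩
      rw [LinearMap.comp_apply] at h
      rw [h]
      show a y = a (e.symm (PH y))
      rw [← he, e.symm_apply_apply])
    rw [Submodule.eq_bot_iff]
    intro w hw
    have h2 : PH w ∈ S.map PH := ⟨w, hw, rfl⟩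
    rw [h1, Submodule.mem_bot, ← he] at h2
    exact (LinearEquiv.map_eq_zero_iff e).1 h2
  obtain ⟨Z, hZ1, hZ2, hZ3⟩ := exists_extend ha hφa hD1 hfm hfd
  obtain ⟨Y, hY1, hY2, hY3⟩ := exists_extend ha hφa hD2' hfm hfd
  have hdZY : LinearMap.det Z = LinearMap.det Y := by rw [det_eq_charpoly, det_eq_charpoly Y, hZ3, hY3]
  have hZ0 : LinearMap.det Z ≠ 0 := by
    rw [det_eq_charpoly, hZ3]
    refine mul_ne_zero (by simp) fun h0 => ?_
    have h1 : (X : F[X]) ∣ f := X_dvd_iff.2 h0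
    have h2 := (irreducible_X (R := F)).associated_of_dvd hf h1
    have h3 := natDegree_eq_of_degree_eq (degree_eq_degree_of_associated h2)
    rw [natDegree_X] at h3
    omega
  obtain ⟨Z', hZZ', hZ'Z⟩ := exists_inv hZ0
  -- `Q = Z⁻¹ Y`
  set Q := Z' * Y with hQ
  have hZQ : Z * Q = Y := by rw [hQ, ← mul_assoc, hZZ', one_mul]
  have hQH : ∀ v ∈ LinearMap.ker φ, Q v = P v := by
    intro v hv
    have h1 : Y v = D (PH ⟨v, hv⟩) := hY1 ⟨v, hv⟩
    have h2 : Z (P v) = D (PH ⟨v, hv⟩) := hZ1 (PH ⟨v, hv⟩)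
    rw [hQ, Module.End.mul_apply, h1, ← h2, ← Module.End.mul_apply, hZ'Z, Module.End.one_apply]
  have hQH' : ∀ v ∈ LinearMap.ker φ, Q v ∈ LinearMap.ker φ := by
    intro v hv
    rw [hQH v hv]
    exact hPH v hv
  have hQd : LinearMap.det Q = 1 := by
    have h1 : LinearMap.det Z * LinearMap.det Q = LinearMap.det Z * 1 := by rw [← map_mul, hZQ, mul_one, hdZY]
    exact mul_left_cancel₀ hZ0 h1
  have hQu : φ (Q u) = x := by
    have h1 := split_det hu hQH'
    have h2 : Q.restrict hQH' = PH := by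
      ext w
      exact hQH w w.2
    rw [hQd, h2, ← hPd] at h1
    exact (mul_left_cancel₀ hPH0 h1).symm
  -- conjugating `Q` to `P`
  have hinj : Function.Injective (algebraMap F (End F (LinearMap.ker φ)) x - PH) := by
    rw [← hcp, LinearMap.eval_charpoly] at hx
    exact (LinearMap.equivOfDetNeZero _ hx).injective
  have hsurj := LinearMap.injective_iff_surjective.1 hinj
  obtain ⟨w, hw⟩ := hsurj ⟨P u - Q u, by rw [LinearMap.mem_ker, map_sub, hPu, hQu, sub_self]⟩
  have hw' : x • (w : V) - P w = P u - Q u := by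
    have h1 := congrArg Subtype.val hw
    rw [LinearMap.sub_apply, Module.algebraMap_end_apply] at h1
    exact h1
  let k := tr φ w w.2
  have hk : ∀ v, k v = v + φ v • (w : V) := fun v => rfl
  have hQv : ∀ v, Q v = P v + φ v • (Q u - P u) := by
    intro v
    have h1 := hQH (v - φ v • u) (by simp [hu])
    rw [map_sub, map_sub, map_smul, map_smul] at h1
    rw [smul_sub, ← sub_eq_zero]
    rw [← sub_eq_zero] at h1
    rw [← h1]
    abel
  have hφQ : ∀ v, φ (Q v) = x * φ v := by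
    intro v
    rw [hQv, map_add, map_smul, map_sub, hPu, hQu, sub_self, smul_zero, add_zero, hφ]
  have hkQ : ∀ v, k (Q v) = P (k v) := by
    intro v
    rw [hk, hk, hφQ, hQv, map_add, map_smul, add_assoc, mul_comm x, mul_smul, ← smul_add]
    congr 2
    rw [sub_eq_iff_eq_add] at hw'
    rw [hw']
    abel
  -- the conjugates
  let Z₁ : End F V := k.conj Z
  let Y₁ : End F V := k.conj Y
  have hZ₁ : ∀ v, Z₁ (k v) = k (Z v) := fun v => by
    show k (Z (k.symm (k v))) = _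
    rw [k.symm_apply_apply]
  have hY₁ : ∀ v, Y₁ (k v) = k (Y v) := fun v => by
    show k (Y (k.symm (k v))) = _
    rw [k.symm_apply_apply]
  have hZP : Z₁ * P = Y₁ := by
    ext v
    obtain ⟨v, rfl⟩ := k.surjective v
    rw [Module.End.mul_apply, ← hkQ, hZ₁, hY₁, ← Module.End.mul_apply, hZQ]
  have hsZ : Sim Z Z₁ := Sim.conj Z k
  have hsY : Sim Y Y₁ := Sim.conj Y k
  have hZ₁0 : LinearMap.det Z₁ ≠ 0 := by
    rw [← hsZ.det]
    exact hZ0
  have hsim : Sim (P * Z₁) Y₁ := by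
    refine ⟨LinearMap.equivOfDetNeZero Z₁ hZ₁0, fun v => ?_⟩
    show Z₁ ((P * Z₁) v) = Y₁ (Z₁ v)
    rw [← hZP]
    rfl
  have hc1 : Coc Z₁ := Coc.sim hsZ ⟨φ, hZ2⟩
  have hc2 : Coc (P * Z₁) := Coc.sim (hsY.trans hsim.symm) ⟨φ, hY2⟩
  have hcp1 : LinearMap.charpoly Z₁ = f := by rw [← hsZ.charpoly, hZ3]
  have hcp2 : LinearMap.charpoly (P * Z₁) = f := by rw [hsim.charpoly, ← hsY.charpoly, hY3]
  obtain ⟨e₁, he₁⟩ := Sim.of_coc hc1 hc2 (by rw [hcp1, hcp2])
  have hfull : Full Z₁ := Full.of_irreducible (by rw [hcp1]; exact hf)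
  have hd : LinearMap.det (e₁ : V →ₗ[F] V) ≠ 0 := (LinearEquiv.isUnit_det' e₁).ne_zero
  obtain ⟨e₂, he₂, he₂'⟩ := hfull (LinearMap.det (e₁ : V →ₗ[F] V))⁻¹ (inv_ne_zero hd)
  refine ⟨Z₁, (e₁ : V →ₗ[F] V) * (e₂ : V →ₗ[F] V), hcp1, by rw [map_mul, he₂, mul_inv_cancel₀ hd], ?_⟩
  ext v
  show (P * Z₁) (e₁ (e₂ v)) = e₁ (e₂ (Z₁ v))
  rw [he₂', he₁]

end


/-- T1 -/
theorem gl_comm {F : Type*} [Field F] [Finite F] (hF : 4 ≤ Nat.card F) {ι : Type} [Fintype ι] [DecidableEq ι]
    (P : Matrix ι ι F) (hdet : P.det = 1) (x : F) (p : F[X]) (hp : P.charpoly = (X - C x) * p) (hx : p.eval x ≠ 0)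
    (f : F[X]) (hf : Irreducible f) (hfm : f.Monic) (hfd : f.natDegree = Fintype.card ι) (hι : 2 ≤ Fintype.card ι) :
    ∃ Z h : Matrix ι ι F, Z.charpoly = f ∧ h.det = 1 ∧ P * Z * h = h * Z := by
  have h1 : finrank F (ι → F) = Fintype.card ι := finrank_fintype_fun_eq_card F
  obtain ⟨Z, h, h2, h3, h4⟩ := main (V := ι → F) (P := Matrix.toLin' P) hF (by rw [LinearMap.det_toLin', hdet])
    (x := x) (p := p) (by rw [Matrix.charpoly_toLin', hp]) hx hf hfm (by rw [hfd, h1]) (by rw [h1]; exact hι)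
  refine ⟨LinearMap.toMatrix' Z, LinearMap.toMatrix' h, ?_, ?_, ?_⟩
  · rw [← h2, ← Matrix.charpoly_toLin', Matrix.toLin'_toMatrix']
  · rw [LinearMap.det_toMatrix', h3]
  · rw [← LinearMap.toMatrix'_mul, ← h4]
    rw [LinearMap.toMatrix'_mul, LinearMap.toMatrix'_mul, LinearMap.toMatrix'_toLin']

end Cfsg.Agent.H864.Ore
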